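import Mathlib

/-! Ghost components and truncated Witt vectors. -/

set_option autoImplicit false

universe u

namespace WittThetaLib

variable {p : ℕ} [hp : Fact p.Prime] {B : Type u} [CommRing B]

theorem ghost_eq (n : ℕ) (hpn : (p : B) ^ n = 0) (x : WittVector p B) :
    WittVector.ghostComponent n x = ∑ i : Fin n, (p : B) ^ (i : ℕ) * (x.coeff i) ^ (p ^ (n - i)) := by
  rw [WittVector.ghostComponent_apply, wittPolynomial, map_sum, Finset.sum_range_succ,
    ← Fin.sum_univ_eq_sum_range (fun i => MvPolynomial.aeval x.coeff (MvPolynomial.monomial (R := ℤ) (Finsupp.single i (p ^ (n - i))) ((p : ℤ) ^ i)))]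
  have h : ∀ i, MvPolynomial.aeval x.coeff (MvPolynomial.monomial (R := ℤ) (Finsupp.single i (p ^ (n - i))) ((p : ℤ) ^ i)) =
      (p : B) ^ i * x.coeff i ^ (p ^ (n - i)) := fun i => by
    simp [MvPolynomial.aeval_monomial, map_pow]
  simp only [h, hpn, zero_mul, add_zero]

theorem pow_mul_choose_mul_factorial_dvd {n i j : ℕ} (hi : i ≤ n) (hj : j ≠ 0) :
    p ^ n ∣ p ^ i * ((p ^ (n - i)).choose j * j.factorial) := by
  obtain ⟨k, rfl⟩ := Nat.exists_eq_succ_of_ne_zero hj
  rw [mul_comm ((p ^ (n - i)).choose _), ← Nat.descFactorial_eq_factorial_mul_choose]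
  have h : p ^ (n - i) ∣ (p ^ (n - i)).descFactorial (k + 1) := by
    obtain ⟨q, hq⟩ := Nat.exists_eq_succ_of_ne_zero (pow_ne_zero (n - i) hp.out.ne_zero)
    rw [hq, Nat.succ_descFactorial_succ]
    exact dvd_mul_right _ _
  calc p ^ n = p ^ i * p ^ (n - i) := by rw [← pow_add, Nat.add_sub_cancel' hi]
    _ ∣ _ := Nat.mul_dvd_mul_left _ h

theorem term_eq {n i : ℕ} (hi : i ≤ n) (hpn : (p : B) ^ n = 0) {I : Ideal B} (γ : DividedPowers I) {x y : B}
    (hxy : x - y ∈ I) : (p : B) ^ i * x ^ (p ^ (n - i)) = (p : B) ^ i * y ^ (p ^ (n - i)) := by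
  rw [show x = (x - y) + y by ring, add_pow, Finset.mul_sum, Finset.sum_eq_single 0]
  · simp
  · intro j _ hj
    obtain ⟨c, hc⟩ := pow_mul_choose_mul_factorial_dvd (p := p) hi hj
    rw [← γ.factorial_mul_dpow_eq_pow hxy]
    calc (p : B) ^ i * ((j.factorial : B) * γ.dpow j (x - y) * y ^ (p ^ (n - i) - j) * ((p ^ (n - i)).choose j : B))
        = ((p ^ i * ((p ^ (n - i)).choose j * j.factorial) : ℕ) : B) * (γ.dpow j (x - y) * y ^ (p ^ (n - i) - j)) := by
          push_cast; ring
      _ = 0 := by rw [hc]; push_cast; rw [hpn, zero_mul, zero_mul]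
  · intro h; simp at h

theorem surj (n : ℕ) (I : Ideal B) :
    Function.Surjective ((WittVector.truncate (p := p) n).comp (WittVector.map (Ideal.Quotient.mk I))) :=
  (WittVector.truncate_surjective p n (B ⧸ I)).comp (WittVector.map_surjective _ Ideal.Quotient.mk_surjective)

variable {n : ℕ} {θ : TruncatedWittVector p n (B ⧸ Ideal.span {(p : B)}) →+* B}

theorem mk_theta (hn : 0 < n) (hθ : ∀ x : WittVector p B, θ (WittVector.truncate n (WittVector.map (Ideal.Quotient.mk (Ideal.span {(p : B)})) x)) =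
      ∑ i : Fin n, (p : B) ^ (i : ℕ) * (x.coeff i) ^ (p ^ (n - i)))
    (a : TruncatedWittVector p n (B ⧸ Ideal.span {(p : B)})) :
    Ideal.Quotient.mk (Ideal.span {(p : B)}) (θ a) = (TruncatedWittVector.coeff ⟨0, hn⟩ a) ^ (p ^ n) := by
  obtain ⟨x, rfl⟩ := surj n _ a
  rw [RingHom.comp_apply, hθ, WittVector.coeff_truncate, WittVector.map_coeff, map_sum,
    Finset.sum_eq_single (⟨0, hn⟩ : Fin n)]
  · simp
  · intro i _ hi
    have h0 : (i : ℕ) ≠ 0 := fun h => hi (Fin.ext h)
    rw [map_mul, map_pow, Ideal.Quotient.eq_zero_iff_mem.2 (Ideal.mem_span_singleton_self _), zero_pow h0, zero_mul]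
  · intro h; simp at h

theorem surjective_theta (hpn : (p : B) ^ n = 0)
    (hF : Function.Surjective (fun y : B ⧸ Ideal.span {(p : B)} => y ^ p))
    (hθ : ∀ x : WittVector p B, θ (WittVector.truncate n (WittVector.map (Ideal.Quotient.mk (Ideal.span {(p : B)})) x)) =
      ∑ i : Fin n, (p : B) ^ (i : ℕ) * (x.coeff i) ^ (p ^ (n - i))) :
    Function.Surjective θ := by
  have hF' : ∀ k (y : B ⧸ Ideal.span {(p : B)}), ∃ z, z ^ (p ^ k) = y := fun k => by
    induction k with
    | zero => exact fun y => ⟨y, by simp⟩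
    | succ k ih =>
      intro y
      obtain ⟨w, hw⟩ := ih y
      obtain ⟨z, hz⟩ := hF w
      exact ⟨z, by rw [pow_succ', pow_mul]; simp only at hz; rw [hz, hw]⟩
  have hstep : ∀ b : B, ∃ a c, b = θ a + (p : B) * c := fun b => by
    obtain ⟨z, hz⟩ := hF' n (Ideal.Quotient.mk _ b)
    obtain ⟨c, rfl⟩ := Ideal.Quotient.mk_surjective z
    rw [← map_pow, Ideal.Quotient.eq, Ideal.mem_span_singleton'] at hz
    obtain ⟨e, he⟩ := hz
    refine ⟨WittVector.truncate n (WittVector.map (Ideal.Quotient.mk _) (WittVector.teichmuller p c)), -e, ?_⟩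
    rw [hθ, ← ghost_eq n hpn, WittVector.ghostComponent_teichmuller]
    linear_combination he
  have hk : ∀ k (b : B), ∃ a c, b = θ a + (p : B) ^ k * c := fun k => by
    induction k with
    | zero => exact fun b => ⟨0, b, by simp⟩
    | succ k ih =>
      intro b
      obtain ⟨a, c, rfl⟩ := ih b
      obtain ⟨a', c', rfl⟩ := hstep c
      exact ⟨a + (p : TruncatedWittVector p n (B ⧸ Ideal.span {(p : B)})) ^ k * a', c',
        by rw [map_add, map_mul, map_pow, map_natCast]; ring⟩
  intro b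
  obtain ⟨a, c, h⟩ := hk n b
  exact ⟨a, by rw [h, hpn, zero_mul, add_zero]⟩

end WittThetaLib
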